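import Cfsg.Agent.Lib.ThreeTrans.Classification.Sig

/-!
Fischer's classification, slice MTYPE: the members of the list with given small parameters
(owner: helper16).
-/

set_option autoImplicit false

namespace CfsgLib.ThreeTrans.Fischer.MType

open Fam

/-- The members with small valency which are not symmetric. -/
def small : List Fam :=
  [.m22, .m23, .m24] ++ (List.range 9).map .sp ++ (List.range 14).map .unit ++
    (List.range 10).map .oPlus ++ (List.range 10).map .oMinus ++
    (List.range 26).map (fun N => .refl N true) ++ (List.range 26).map (fun N => .refl N false)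

theorem vR_lower (N : ℕ) (δ : Bool) (hN : 4 ≤ N) : 3 ^ (N / 2 - 1) ≤ vR N δ := by
  have h1 : ∀ m b, 1 ≤ m → 1 ≤ hp m b := by
    intro m b hm
    have : 3 ≤ 3 ^ m := Nat.le_self_pow (by omega) 3
    unfold hp
    split_ifs <;> omega
  unfold vR
  split_ifs with h
  · exact (Nat.pow_le_pow_right (by norm_num) (by omega : N / 2 - 1 ≤ N / 2)).trans
      (Nat.le_mul_of_pos_right _ (h1 _ _ (by omega)))
  · exact Nat.le_mul_of_pos_right _ (h1 _ _ (by omega))

theorem isoU_lower (n : ℕ) (hn : 3 ≤ n) : 2 ^ (2 * n - 5) ≤ isoU n := by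
  have h : ∀ m, 1 ≤ m → 2 ^ (m - 1) ≤ hu m := by
    intro m hm
    have : 2 ^ m = 2 * 2 ^ (m - 1) := by
      conv_lhs => rw [show m = m - 1 + 1 by omega, pow_succ]
      ring
    have := Nat.one_le_two_pow (n := m - 1)
    unfold hu
    split_ifs <;> omega
  unfold isoU
  rw [Nat.le_div_iff_mul_le (by norm_num)]
  calc 2 ^ (2 * n - 5) * 3 ≤ 2 ^ (2 * n - 5) * 4 := by omega
    _ = 2 ^ (n - 1) * 2 ^ (n - 1 - 1) := by
      rw [← pow_add, show (4 : ℕ) = 2 ^ 2 by norm_num, ← pow_add]
      congr 1
      omega
    _ ≤ hu n * hu (n - 1) := Nat.mul_le_mul (h n (by omega)) (h (n - 1) (by omega))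

theorem mem_small {f : Fam} (hf : f.OK) (hk : f.tup.k ≤ 40000) : f ∈ small ∨ ∃ n, f = .sym n := by
  have hpow : (2 : ℕ) ^ 16 = 65536 := by norm_num
  have h3 : (3 : ℕ) ^ 10 = 59049 := by norm_num
  cases f with
  | sym n => exact Or.inr ⟨n, rfl⟩
  | sp m =>
    refine Or.inl ?_
    have hm : m < 9 := by
      by_contra h
      have h1 := Nat.pow_le_pow_right (show 0 < 2 by norm_num) (show 16 ≤ 2 * m - 1 by omega)
      simp only [tup] at hk
      omega
    simp [small, hm]
  | unit n =>
    refine Or.inl ?_
    simp only [OK] at hf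
    have hn : n < 14 := by
      by_contra h
      have h1 := Nat.pow_le_pow_right (show 0 < 2 by norm_num) (show 16 ≤ 2 * (n - 2) - 5 by omega)
      have h2 := isoU_lower (n - 2) (by omega)
      simp only [tup] at hk
      omega
    simp [small, hn]
  | oPlus m =>
    refine Or.inl ?_
    have hm : m < 10 := by
      by_contra h
      have h1 := Nat.pow_le_pow_right (show 0 < 4 by norm_num) (show 8 ≤ m - 1 by omega)
      simp only [tup] at hk
      omega
    simp [small, hm]
  | oMinus m =>
    refine Or.inl ?_
    have hm : m < 10 := by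
      by_contra h
      have h1 := Nat.pow_le_pow_right (show 0 < 4 by norm_num) (show 8 ≤ m - 1 by omega)
      simp only [tup] at hk
      omega
    simp [small, hm]
  | refl N δ =>
    refine Or.inl ?_
    have hN : N < 26 := by
      by_contra h
      have h1 := Nat.pow_le_pow_right (show 0 < 3 by norm_num) (show 10 ≤ (N - 1) / 2 - 1 by omega)
      have h2 := vR_lower (N - 1) (down N δ) (by omega)
      simp only [tup] at hk
      omega
    cases δ <;> simp [small, hN]
  | m22 => exact Or.inl (by simp [small])
  | m23 => exact Or.inl (by simp [small])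
  | m24 => exact Or.inl (by simp [small])

/-- For a symmetric group the two valencies differ by `2 n - 7`. -/
theorem sym_kl {n : ℕ} (hn : 5 ≤ n) : (sym n).tup.k = (sym n).tup.l + (2 * n - 7) := by
  obtain ⟨k, rfl⟩ := Nat.exists_eq_add_of_le hn
  show (5 + k - 2).choose 2 = (5 + k - 4).choose 2 + _
  rw [show 5 + k - 2 = k + 3 by omega, show 5 + k - 4 = k + 1 by omega,
    show 2 * (5 + k) - 7 = (k + 2) + (k + 1) by omega,
    show (k + 3).choose 2 = (k + 2).choose 1 + ((k + 1).choose 1 + (k + 1).choose 2) by
      rw [← Nat.choose_succ_succ, ← Nat.choose_succ_succ],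
    Nat.choose_one_right, Nat.choose_one_right]
  omega

/-- For a symmetric group the number of members and the valency differ by `2 n - 3`. -/
theorem sym_vk {n : ℕ} (hn : 5 ≤ n) : (sym n).tup.v = (sym n).tup.k + (2 * n - 3) := by
  obtain ⟨k, rfl⟩ := Nat.exists_eq_add_of_le hn
  show (5 + k).choose 2 = (5 + k - 2).choose 2 + _
  rw [show 5 + k - 2 = k + 3 by omega, show 5 + k = k + 5 by omega,
    show 2 * (k + 5) - 3 = (k + 4) + (k + 3) by omega,
    show (k + 5).choose 2 = (k + 4).choose 1 + ((k + 3).choose 1 + (k + 3).choose 2) by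
      rw [← Nat.choose_succ_succ, ← Nat.choose_succ_succ],
    Nat.choose_one_right, Nat.choose_one_right]
  omega

/-- The pairs `(k, l)` of parameters met in the common perps, with their members. -/
def klTable : List ((ℕ × ℕ) × Option Fam) :=
  [((45, 12), some (.refl 6 false)), ((15, 4), none), ((126, 45), some (.refl 7 false)), ((42, 15), none),
    ((14, 5), none), ((351, 126), some (.refl 8 true)), ((117, 42), none), ((39, 14), none)]

/-- The pairs `(v, k)` of parameters of the sections, with their members. -/
def vkTable : List ((ℕ × ℕ) × Option Fam) :=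
  [((693, 180), some (.unit 6)), ((3510, 693), some .m22), ((31671, 3510), some .m23),
    ((126, 45), some (.refl 6 false)), ((351, 126), some (.refl 7 false)), ((1080, 351), some (.refl 8 true))]

theorem kl_small : ∀ e ∈ klTable, ∀ f ∈ small, (f.tup.k, f.tup.l) = e.1 → some f = e.2 := by decide +kernel

theorem vk_small : ∀ e ∈ vkTable, ∀ f ∈ small, (f.tup.v, f.tup.k) = e.1 → some f = e.2 := by decide +kernel

theorem kl_le : ∀ e ∈ klTable, e.1.1 ≤ 40000 := by decide

theorem vk_le : ∀ e ∈ vkTable, e.1.2 ≤ 40000 := by decide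

theorem kl_sym : ∀ e ∈ klTable, ∀ n < 150,
    e.1.1 = e.1.2 + (2 * n - 7) → ((sym n).tup.k, (sym n).tup.l) ≠ e.1 := by decide +kernel

theorem vk_sym : ∀ e ∈ vkTable, ∀ n < 14090,
    e.1.1 = e.1.2 + (2 * n - 3) → (sym n).tup.v ≠ e.1.1 := by
  intro e he n _ hn h
  replace h : n.choose 2 = e.1.1 := h
  rw [Nat.choose_two_right] at h
  simp only [vkTable, List.mem_cons, List.not_mem_nil, or_false] at he
  rcases he with rfl | rfl | rfl | rfl | rfl | rfl
  · obtain rfl : n = 258 := by simp only at hn; omega
    norm_num at h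
  · obtain rfl : n = 1410 := by simp only at hn; omega
    norm_num at h
  · obtain rfl : n = 14082 := by simp only at hn; omega
    norm_num at h
  · obtain rfl : n = 42 := by simp only at hn; omega
    norm_num at h
  · obtain rfl : n = 114 := by simp only at hn; omega
    norm_num at h
  · obtain rfl : n = 366 := by simp only at hn; omega
    norm_num at h

/-- A member with the parameters `(k, l)` of the table is the one named there. -/
theorem fam_of_kl {f : Fam} (hf : f.OK) {e : (ℕ × ℕ) × Option Fam} (he : e ∈ klTable) (hk : f.tup.k = e.1.1)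
    (hl : f.tup.l = e.1.2) : some f = e.2 := by
  rcases mem_small hf (hk ▸ kl_le e he) with h | ⟨n, rfl⟩
  · exact kl_small e he f h (Prod.ext hk hl)
  · exfalso
    have hn : 5 ≤ n := by simp only [OK] at hf; omega
    have h := sym_kl hn
    rw [hk, hl] at h
    have : ∀ e ∈ klTable, e.1.1 < e.1.2 + 280 := by decide
    exact kl_sym e he n (by have := this e he; omega) h (Prod.ext hk hl)

/-- A member with the parameters `(v, k)` of the table is the one named there. -/
theorem fam_of_vk {f : Fam} (hf : f.OK) {e : (ℕ × ℕ) × Option Fam} (he : e ∈ vkTable) (hv : f.tup.v = e.1.1)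
    (hk : f.tup.k = e.1.2) : some f = e.2 := by
  rcases mem_small hf (hk ▸ vk_le e he) with h | ⟨n, rfl⟩
  · exact vk_small e he f h (Prod.ext hv hk)
  · exfalso
    have hn : 5 ≤ n := by simp only [OK] at hf; omega
    have h := sym_vk hn
    rw [hk, hv] at h
    have : ∀ e ∈ vkTable, e.1.1 < e.1.2 + 28170 := by decide
    exact vk_sym e he n (by have := this e he; omega) h hv

end CfsgLib.ThreeTrans.Fischer.MType
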