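import Cfsg.Agent.Lib.ThreeTrans.Classification.ReconM.Pairs

/-!
Fischer's classification, slice MTYPE: the three sporadic members from their section and parameters
(owner: helper16).
-/

set_option autoImplicit false

namespace CfsgLib.ThreeTrans.Fischer.MType

open Cfsg RankThree CoreNC

universe u

/-- What the classification of the smaller groups provides. -/
abbrev Below (G : Type u) [Group G] : Prop :=
  ∀ (K : Type u) [Group K] [Finite K] (E : Set K), Nat.card K < Nat.card G → Setting E →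
    Subgroup.center K = ⊥ → ∃ h : Fam, h.OK ∧ h.Model K E ∧ HasTup E h.tup

variable {G : Type u} [Group G] [Finite G] {D : Set G}

/-- The parameters of the section. -/
theorem section_tup (S : Setting D) (hZ : Subgroup.center G = ⊥) {d : G} (hd : d ∈ D) (hc : CentralCores D d)
    (hlow : Below G) {g : Tup} (hG : HasTup D g) {e : (ℕ × ℕ) × Option Fam} (he : e ∈ vkTable)
    (hek : g.k = e.1.1) (hel : g.l = e.1.2) {f : Fam} (hfe : e.2 = some f) :
    HasTup (secSet D d) f.tup := by
  obtain ⟨h, hh, -, ht⟩ := hlow _ _ (sec_card_lt S hd) (sec_setting S hZ hd hc) (sec_center S hd hc)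
  obtain ⟨a, ha, b, hb, hne, hab⟩ := S.width
  have h1 : h.tup.v = e.1.1 := by
    rw [← valency_eq S hZ hd hc ht hd, hG.valency d hd, hek]
  have h2 : h.tup.k = e.1.2 := by
    rw [← common_eq S hZ hd hc ht ha hb hne hab, hG.common a ha b hb hne hab, hel]
  have := fam_of_vk hh he h1 h2
  rw [hfe, Option.some.injEq] at this
  exact this ▸ ht

/-- The member behind the common perp of a pair, with the number of its components. -/
theorem pair_outcome (S : Setting D) (hZ : Subgroup.center G = ⊥) {d : G} (hd : d ∈ D) (hc : CentralCores D d)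
    (hnum : NumericStatement.{u}) (hlow : Below G) {t : Tup} (ht : HasTup (secSet D d) t) {μ : ℕ}
    (hkl : (t.m, t.nu) ∈ [(45, 12), (126, 45), (351, 126)]) (hlt : 2 * t.m < μ) {b : G} (hb : b ∈ D)
    (hdb : ¬ Commute d b) (hμ : (Polar.cperp D d b).ncard = μ) :
    ∃ (f : Fam) (L : Subgroup (Red ↥(pairGrp D d b))) (_ : L.Normal) (x₀ : Red ↥(pairGrp D d b))
      (P : Set (Red ↥(pairGrp D d b))) (c : ℕ), some f = target (t.m, t.nu) ∧
      Nonempty ((↥(pairGrp D d b) ⧸ Subgroup.center ↥(pairGrp D d b)) ≃* Red ↥(pairGrp D d b)) ∧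
      ⁅L, L⁆ = L ∧ Subgroup.closure P = L ⊔ Subgroup.zpowers x₀ ∧
      IsThreeTranspositionClass (red ↥(pairGrp D d b) '' inClosure (Polar.cperp D d b)) ∧
      f.Model ↥(Subgroup.closure P) (inClosure P) ∧ μ = 3 ^ c * f.tup.v ∧
      (c = 0 → Subgroup.closure P = ⊤) ∧
      (1 ≤ c → (∀ y ∈ red ↥(pairGrp D d b) '' inClosure (Polar.cperp D d b), y ∉ L) ∧
        (QuotientGroup.mk' L '' (red ↥(pairGrp D d b) '' inClosure (Polar.cperp D d b))).ncard = 3 ^ c) := by
  have hm : 0 < t.m := by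
    simp only [List.mem_cons, List.not_mem_nil, or_false, Prod.mk.injEq] at hkl
    omega
  have hne : (Polar.cperp D d b).Nonempty := Set.nonempty_of_ncard_ne_zero (by omega)
  obtain ⟨f', -, -, hp, -⟩ := hnum G D S hZ
  have hval : ∀ x ∈ Polar.cperp D d b, {y | y ∈ Polar.cperp D d b ∧ y ≠ x ∧ Commute x y}.ncard = t.m :=
    fun x hx => inPerp_card S hZ hd hc ht hd hb hdb hx
  have hconn := shapeConn_of_small (hp d hd b hb hdb) hval hm (by omega)
  have hcl := perp_class S hne hconn
  have hnb : ∀ x, nb (Polar.cperp D d b) x = inPerp D d b x := fun x => rfl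
  have hP : SetParams (inClosure (Polar.cperp D d b)) t.m t.nu := setParams_inClosure
    ⟨fun x hx => by rw [hnb]; exact inPerp_card S hZ hd hc ht hd hb hdb hx,
      fun x hx y hy hxy h => by
        rw [hnb, hnb]; exact inPerp_inner S hZ hd hc ht hd hb hdb hx ⟨hy, hxy.symm, h⟩⟩
  rcases reduce hcl hP hm with ⟨a, r, c, hr, h1, h2, -⟩ | ⟨a, k₀, l₀, hR⟩
  · exact (no_clique hkl a r hr h1 h2).elim
  obtain ⟨x₀, hx₀, -⟩ := id hR.cls.2.1
  obtain ⟨L, hLn, c, -, hperf, hsup, hS', hZ', hP', hcard, hquot⟩ :=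
    split_detail hR.cls hR.center hR.free hR.params hR.pos hx₀
  set P := {y | y ∈ red ↥(pairGrp D d b) '' inClosure (Polar.cperp D d b) ∧ x₀ * y ∈ L} with hPdef
  have hPE : P ⊆ red ↥(pairGrp D d b) '' inClosure (Polar.cperp D d b) := fun y hy => hy.1
  rw [← inClosure_ncard P] at hcard
  have hsmall : Nat.card ↥(Subgroup.closure P) < Nat.card G :=
    ((Subgroup.card_le_card_group _).trans (Nat.card_le_card_of_surjective _ red_surjective)).trans_lt
      (closure_cperp_lt S hZ hd)
  obtain ⟨f, hf, hmod, hft⟩ := hlow _ _ hsmall hS' hZ'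
  obtain ⟨p, hp', q, hq, hpq, hpc⟩ := hS'.width
  obtain ⟨ha, hfam⟩ := blown_unique hkl hR.valency hR.common hf
    ((hft.valency p hp').symm.trans (hP'.valency p hp'))
    ((hft.common p hp' q hq hpq hpc).symm.trans (hP'.common p hp' q hq hpq hpc))
  subst ha
  have hinj : Set.InjOn (red ↥(pairGrp D d b)) (inClosure (Polar.cperp D d b)) := by
    intro x hx y hy e
    have h1 := hR.fibre x hx
    rw [pow_zero, Set.ncard_eq_one] at h1
    obtain ⟨z, hz⟩ := h1
    have hx' : x ∈ ({z} : Set _) := hz ▸ ⟨hx, rfl⟩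
    have hy' : y ∈ ({z} : Set _) := hz ▸ ⟨hy, e.symm⟩
    exact hx'.trans hy'.symm
  refine ⟨f, L, hLn, x₀, P, c, hfam, ⟨(QuotientGroup.quotientMulEquivOfEq (red_ker hcl hinj).symm).trans
    (QuotientGroup.quotientKerEquivOfSurjective _ red_surjective)⟩, hperf, hsup, hR.cls, hmod, ?_, ?_, hquot⟩
  · rw [← hμ, ← inClosure_ncard (Polar.cperp D d b), hR.card, pow_zero, one_mul, hcard, hft.card]
  · intro hc0
    have hP1 : (inClosure P).ncard = (red ↥(pairGrp D d b) '' inClosure (Polar.cperp D d b)).ncard := by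
      rw [hcard, hc0, pow_zero, one_mul]
    rw [inClosure_ncard] at hP1
    rw [Set.eq_of_subset_of_ncard_le hPE hP1.ge (Set.toFinite _)]
    exact hR.cls.2.2

/-- Carry a normal subgroup with its two isomorphisms along an isomorphism. -/
theorem triality_congr {H H' : Type u} [Group H] [Group H'] (e : H ≃* H') {A B : Type*} [Group A] [Group B]
    (h : ∃ (N : Subgroup H) (_ : N.Normal), Nonempty (N ≃* A) ∧ Nonempty (H ⧸ N ≃* B)) :
    ∃ (N : Subgroup H') (_ : N.Normal), Nonempty (N ≃* A) ∧ Nonempty (H' ⧸ N ≃* B) := by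
  obtain ⟨N, hN, ⟨φ⟩, ⟨ψ⟩⟩ := h
  haveI : (N.map e.toMonoidHom).Normal := hN.map e.toMonoidHom e.surjective
  exact ⟨N.map e.toMonoidHom, inferInstance, ⟨(e.subgroupMap N).symm.trans φ⟩,
    ⟨(QuotientGroup.congr N (N.map e.toMonoidHom) e rfl).symm.trans ψ⟩⟩

/-- Slice MTYPE, the first case. -/
theorem recon_twentyTwo : ReconStatement.{u} (.unit 6) .m22 := by
  intro hnum G _ _ D S hZ d hd hc hlow hH hG
  have ht := section_tup S hZ hd hc hlow hG (e := ((693, 180), some (.unit 6))) (by simp [vkTable]) rfl rfl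
    (f := .unit 6) rfl
  obtain ⟨b, hb, hdb⟩ := exists_not_commute S.cls S.nontriv hd
  have hμ : (Polar.cperp D d b).ncard = 126 := hG.apart d hd b hb hdb
  obtain ⟨f, L, hLn, x₀, P, c, hf, ⟨e⟩, -, -, -, hmod, hv, h0, -⟩ :=
    pair_outcome S hZ hd hc hnum hlow ht (μ := 126) (by decide) (by decide) hb hdb hμ
  have htarget : target ((Fam.unit 6).tup.m, (Fam.unit 6).tup.nu) = some (.refl 6 false) := by decide
  rw [htarget, Option.some.injEq] at hf
  subst hf
  rw [show (Fam.refl 6 false).tup.v = 126 by decide] at hv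
  have hc0 : c = 0 := by
    by_contra hne
    have : 3 ≤ 3 ^ c := Nat.le_self_pow hne 3
    omega
  obtain ⟨c₃, hc₃, h⟩ := proj_of_model hmod
  rw [discR_six] at h
  exact m22_of hZ hd hb hdb hH ⟨c₃, hc₃, proj_congr
    ((((MulEquiv.subgroupCongr (h0 hc0)).trans Subgroup.topEquiv).trans e.symm)) h⟩

/-- Slice MTYPE, the second case. -/
theorem recon_twentyThree : ReconStatement.{u} .m22 .m23 := by
  intro hnum G _ _ D S hZ d hd hc hlow hH hG
  have ht := section_tup S hZ hd hc hlow hG (e := ((3510, 693), some .m22)) (by simp [vkTable]) rfl rfl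
    (f := .m22) rfl
  obtain ⟨b, hb, hdb⟩ := exists_not_commute S.cls S.nontriv hd
  have hμ : (Polar.cperp D d b).ncard = 351 := hG.apart d hd b hb hdb
  obtain ⟨f, L, hLn, x₀, P, c, hf, ⟨e⟩, -, -, -, hmod, hv, h0, -⟩ :=
    pair_outcome S hZ hd hc hnum hlow ht (μ := 351) (by decide) (by decide) hb hdb hμ
  have htarget : target (Fam.m22.tup.m, Fam.m22.tup.nu) = some (.refl 7 false) := by decide
  rw [htarget, Option.some.injEq] at hf
  subst hf
  rw [show (Fam.refl 7 false).tup.v = 351 by decide] at hv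
  have hc0 : c = 0 := by
    by_contra hne
    have : 3 ≤ 3 ^ c := Nat.le_self_pow hne 3
    omega
  obtain ⟨c₃, hc₃, h⟩ := proj_of_model hmod
  rw [discR_seven] at h
  exact m23_of hZ hd hb hdb hH ⟨c₃, hc₃, proj_congr
    ((((MulEquiv.subgroupCongr (h0 hc0)).trans Subgroup.topEquiv).trans e.symm)) h⟩

/-- Slice MTYPE, the third case. -/
theorem recon_twentyFour : ReconStatement.{u} .m23 .m24 := by
  intro hnum G _ _ D S hZ d hd hc hlow hH hG
  have ht := section_tup S hZ hd hc hlow hG (e := ((31671, 3510), some .m23)) (by simp [vkTable]) rfl rfl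
    (f := .m23) rfl
  obtain ⟨b, hb, hdb⟩ := exists_not_commute S.cls S.nontriv hd
  have hμ : (Polar.cperp D d b).ncard = 3240 := hG.apart d hd b hb hdb
  obtain ⟨f, L, hLn, x₀, P, c, hf, ⟨e⟩, hperf, hsup, hcl, hmod, hv, -, hquot⟩ :=
    pair_outcome S hZ hd hc hnum hlow ht (μ := 3240) (by decide) (by decide) hb hdb hμ
  have htarget : target (Fam.m23.tup.m, Fam.m23.tup.nu) = some (.refl 8 true) := by decide
  rw [htarget, Option.some.injEq] at hf
  subst hf
  rw [show (Fam.refl 8 true).tup.v = 1080 by decide] at hv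
  have hc1 : c = 1 := by
    rcases c with _ | _ | c
    · simp at hv
    · rfl
    · have : 9 ≤ 3 ^ (c + 2) := by
        rw [show (9 : ℕ) = 3 ^ 2 by norm_num]; exact Nat.pow_le_pow_right (by norm_num) (by omega)
      omega
  subst hc1
  obtain ⟨hnot, h3⟩ := hquot le_rfl
  haveI := hLn
  exact m24_of hZ hd hb hdb hH (triality_congr e.symm (triality_of hcl L hperf hnot (by simpa using h3) hsup hmod))

end CfsgLib.ThreeTrans.Fischer.MType
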