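import Cfsg.Agent.Lib.ThreeTrans.ReflectionsF3
import Cfsg.Agent.Lib.Known.AutPOmega.Transport
import Cfsg.Agent.Lib.Classical.Quad.PlusMinusType
import Cfsg.Agent.Lib.Classical.Quad.SimilarityAction

/-!
Fischer's classification, slice MTYPE: the derived group of the projective reflection group in dimension
eight of square discriminant is `PΩ⁺(8, 3)` (owner: helper16).
-/

set_option autoImplicit false

namespace CfsgLib.ThreeTrans.Fischer.MType

open Cfsg CfsgLib.Classical.Quad CfsgLib.ThreeTrans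
open QuadraticMap (polar polarBilin)

local notation "F3" => ZMod 3

variable {n : ℕ} {Q : QuadraticForm F3 (Fin n → F3)} {c : F3}

theorem omega_le_refl (hn : 5 ≤ n) (hQ : (polarBilin Q).Nondegenerate) (hc : c ≠ 0) :
    Cfsg.Omega F3 (⇑Q) ≤ Cfsg.reflectionSubgroup (⇑Q) c :=
  commutator_le_of_index_two (ReflectionsF3.index_eq_two hn hQ hc)

theorem map_commutator_refl (hn : 7 ≤ n) (hQ : (polarBilin Q).Nondegenerate) (hc : c ≠ 0) :
    (commutator ↥(Cfsg.reflectionSubgroup (⇑Q) c)).map (Cfsg.reflectionSubgroup (⇑Q) c).subtype =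
      Cfsg.Omega F3 (⇑Q) := by
  haveI : Fact (Nat.Prime 3) := ⟨Nat.prime_three⟩
  rw [Subgroup.map_subtype_commutator]
  refine le_antisymm ?_ ?_
  · exact (Subgroup.commutator_mono le_top le_top).trans (commutator_def _).symm.le
  · have h := congrArg (Subgroup.map (Cfsg.Omega F3 (⇑Q)).subtype)
      (commutator_Omega_top hQ (by rwa [Fintype.card_fin]))
    rw [Subgroup.map_subtype_commutator, ← MonoidHom.range_eq_map, Subgroup.range_subtype] at h
    calc Cfsg.Omega F3 (⇑Q) = _ := h.symm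
      _ ≤ _ := Subgroup.commutator_mono (omega_le_refl (by omega) hQ hc) (omega_le_refl (by omega) hQ hc)

theorem commute_of_center_omega (hn : 7 ≤ n) (hQ : (polarBilin Q).Nondegenerate)
    {x : ↥(Cfsg.Omega F3 (⇑Q))} (hx : x ∈ Subgroup.center ↥(Cfsg.Omega F3 (⇑Q)))
    (g : ↥(Cfsg.isometryGroup F3 (⇑Q))) : Commute (x : ↥(Cfsg.isometryGroup F3 (⇑Q))) g := by
  haveI : Fact (Nat.Prime 3) := ⟨Nat.prime_three⟩
  have h : omegaEquiv Q x ∈ Subgroup.center (commutator (OQ Q)) := by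
    rw [← map_center_eq (omegaEquiv Q)]
    exact Subgroup.mem_map_of_mem _ hx
  obtain ⟨a, -, ha⟩ := (center_Omega_iff hQ (by rw [Module.finrank_pi, Fintype.card_fin]; omega)).1 h
  refine (oEquiv Q).injective ?_
  rw [map_mul, map_mul]
  refine Subtype.ext (LinearEquiv.ext fun v => ?_)
  have hx' : ∀ v, (oEquiv Q (x : ↥(Cfsg.isometryGroup F3 (⇑Q))) : (Fin n → F3) ≃ₗ[F3] (Fin n → F3)) v =
      a • v := ha
  show (oEquiv Q (x : ↥(Cfsg.isometryGroup F3 (⇑Q))) : (Fin n → F3) ≃ₗ[F3] (Fin n → F3))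
      ((oEquiv Q g : (Fin n → F3) ≃ₗ[F3] (Fin n → F3)) v) =
    (oEquiv Q g : (Fin n → F3) ≃ₗ[F3] (Fin n → F3))
      ((oEquiv Q (x : ↥(Cfsg.isometryGroup F3 (⇑Q))) : (Fin n → F3) ≃ₗ[F3] (Fin n → F3)) v)
  rw [hx', hx', map_smul]

/-- The derived group of the reflection group modulo its centre is `PΩ`. -/
theorem derived_equiv (hn : 7 ≤ n) (hQ : (polarBilin Q).Nondegenerate) (hc : c ≠ 0) :
    Nonempty (commutator (↥(Cfsg.reflectionSubgroup (⇑Q) c) ⧸
      Subgroup.center ↥(Cfsg.reflectionSubgroup (⇑Q) c)) ≃* Cfsg.POmega F3 (⇑Q)) := by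
  haveI : Fact (Nat.Prime 3) := ⟨Nat.prime_three⟩
  set R := Cfsg.reflectionSubgroup (⇑Q) c with hR
  let φ : commutator ↥R ≃* ↥(Cfsg.Omega F3 (⇑Q)) :=
    ((commutator ↥R).equivMapOfInjective R.subtype R.subtype_injective).trans
      (MulEquiv.subgroupCongr (map_commutator_refl hn hQ hc))
  let π : ↥R →* ↥R ⧸ Subgroup.center ↥R := QuotientGroup.mk' _
  have hmap : (commutator ↥R).map π = commutator (↥R ⧸ Subgroup.center ↥R) := by
    rw [commutator_def, commutator_def, Subgroup.map_commutator,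
      Subgroup.map_top_of_surjective _ (QuotientGroup.mk'_surjective _)]
  let ψ : commutator ↥R →* commutator (↥R ⧸ Subgroup.center ↥R) :=
    (MulEquiv.subgroupCongr hmap).toMonoidHom.comp (π.subgroupMap (commutator ↥R))
  have hψ : Function.Surjective ψ :=
    (MulEquiv.subgroupCongr hmap).surjective.comp (π.subgroupMap_surjective _)
  have hker : ψ.ker = Subgroup.center (commutator ↥R) := by
    ext x
    rw [MonoidHom.mem_ker, Subgroup.mem_center_iff]
    constructor
    · intro hx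
      have h1 : (x : ↥R) ∈ Subgroup.center ↥R := (QuotientGroup.eq_one_iff _).1 (congrArg Subtype.val hx)
      exact fun y => Subtype.ext (Subgroup.mem_center_iff.1 h1 y)
    · intro hx
      have h1 : φ x ∈ Subgroup.center ↥(Cfsg.Omega F3 (⇑Q)) :=
        Subgroup.mem_center_iff.2 fun y => by
          rw [← φ.apply_symm_apply y, ← map_mul, ← map_mul, hx]
      refine Subtype.ext ((QuotientGroup.eq_one_iff _).2 (Subgroup.mem_center_iff.2 fun g => ?_))
      exact Subtype.ext (commute_of_center_omega hn hQ h1 (g : ↥(Cfsg.isometryGroup F3 (⇑Q)))).symm.eq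
  exact ⟨((QuotientGroup.quotientKerEquivOfSurjective ψ hψ).symm.trans
    (QuotientGroup.quotientMulEquivOfEq hker)).trans (QuotientGroup.congr _ _ φ (map_center_eq φ))⟩

/-- The form of square discriminant in dimension eight is hyperbolic. -/
theorem pomega_of_refl {Q : QuadraticForm F3 (Fin 8 → F3)} (hQ : (polarBilin Q).Nondegenerate)
    (hdet : Cfsg.polarGramDet (⇑Q) = 1) (hc : c ≠ 0) :
    Nonempty (commutator (↥(Cfsg.reflectionSubgroup (⇑Q) c) ⧸
      Subgroup.center ↥(Cfsg.reflectionSubgroup (⇑Q) c)) ≃* Cfsg.POmega F3 (Cfsg.quadFormPlus 4 F3)) := by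
  haveI : Fact (Nat.Prime 3) := ⟨Nat.prime_three⟩
  obtain ⟨φ⟩ := derived_equiv (by norm_num) hQ hc
  have hd : (LinearMap.BilinForm.toMatrix (Pi.basisFun F3 (Fin 8)) (polarBilin Q)).det = 1 := by
    rw [← hdet]
    unfold Cfsg.polarGramDet
    refine congrArg Matrix.det (Matrix.ext fun i j => ?_)
    rw [LinearMap.BilinForm.toMatrix_apply, Pi.basisFun_apply, Pi.basisFun_apply, Matrix.of_apply]
    rfl
  obtain ⟨E, hE⟩ := exists_isometry_of_det (F := F3) ReflectionsF3.two_ne
    ⟨fun u v => QuadraticMap.polar_comm _ u v⟩ hQ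
    ⟨fun u v => QuadraticMap.polar_comm _ u v⟩ (qPlus_nondeg (F := F3) 4)
    (Pi.basisFun F3 (Fin 8)) (Pi.basisFun F3 (Fin 4 ⊕ Fin 4)) (n := 7)
    (by rw [Module.finrank_pi, Fintype.card_fin])
    (by rw [Module.finrank_pi, Fintype.card_sum, Fintype.card_fin])
    (by rw [hd, det_gram_qPlus]; exact ⟨1, by norm_num⟩)
  obtain ⟨ψ⟩ := CfsgLib.Known.AutPOmega.pOmega_congr (Q := Q) (Q' := qPlus 4 F3) E 1 one_ne_zero fun v => by
    rw [one_mul]
    refine mul_left_cancel₀ ReflectionsF3.two_ne ?_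
    have h1 : polar (qPlus 4 F3) (E v) (E v) = polar Q v v := hE v v
    rwa [polar_self', polar_self'] at h1
  rw [coe_qPlus] at ψ
  exact ⟨φ.trans ψ⟩

end CfsgLib.ThreeTrans.Fischer.MType
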