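import Cfsg.Agent.Lib.ThreeTrans.Classification.Section
import Cfsg.Agent.Lib.ThreeTrans.Classification.ReconM.Triality
import Cfsg.Agent.Lib.ThreeTrans.Braid

/-!
Fischer's classification, slice MTYPE: the three predicates from the model of the section and the
structure of one pair group (owner: helper16).
-/

set_option autoImplicit false

namespace CfsgLib.ThreeTrans.Fischer.MType

open Cfsg RankThree
open scoped commutatorElement

universe u

variable {G : Type u} [Group G] {D : Set G} {d c : G}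

theorem perp_eq (h : ¬ Commute d c) :
    ({y : G | y ∈ D ∧ y ≠ d ∧ Commute d y} ∩ {y : G | y ∈ D ∧ y ≠ c ∧ Commute c y}) = Polar.cperp D d c := by
  ext y
  constructor
  · rintro ⟨⟨hy, -, h1⟩, -, -, h2⟩
    exact ⟨hy, h1.symm, h2.symm⟩
  · intro hy
    have hne := Polar.cperp_ne h hy
    exact ⟨⟨hy.1, hne.1, hy.2.1.symm⟩, hy.1, hne.2, hy.2.2.symm⟩

/-- The group generated by a common perp. -/
abbrev pairGrp (D : Set G) (d c : G) : Subgroup G := Subgroup.closure (Polar.cperp D d c)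

theorem proj_of_model {H : Type u} [Group H] {E : Set H} {N : ℕ} {δ : Bool}
    (h : (Fam.refl N δ).Model H E) :
    ∃ c : ZMod 3, c ≠ 0 ∧ IsProjReflectionGroupModThree H N (discR N δ c) c := by
  obtain ⟨Q, hQ, c, hc, hdet, e, -⟩ := h
  exact ⟨c, hc, Q, hQ, hdet, ⟨e⟩⟩

theorem proj_congr {H H' : Type u} [Group H] [Group H'] (e : H ≃* H') {N : ℕ} {μ c : ZMod 3}
    (h : IsProjReflectionGroupModThree H N μ c) : IsProjReflectionGroupModThree H' N μ c := by
  obtain ⟨Q, hQ, hdet, ⟨f⟩⟩ := h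
  exact ⟨Q, hQ, hdet, ⟨e.symm.trans f⟩⟩

theorem transport {S T : Set G} (h : S = T) (P : Subgroup G → Prop) (hP : P (Subgroup.closure T)) :
    P (Subgroup.closure S) := h ▸ hP

theorem m22_of (hZ : Subgroup.center G = ⊥) (hd : d ∈ D) (hc : c ∈ D) (hdc : ¬ Commute d c)
    (hH : (Fam.unit 6).Model (Sec D d) (secSet D d))
    (hL : ∃ c₃ : ZMod 3, c₃ ≠ 0 ∧ IsProjReflectionGroupModThree
      (↥(pairGrp D d c) ⧸ Subgroup.center ↥(pairGrp D d c)) 6 1 c₃) :
    IsOfTypeM22 G D := by
  refine ⟨hZ, d, hd, c, hc, hdc, ?_, ?_⟩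
  · obtain ⟨F, i₁, i₂, hF, e, -⟩ := hH
    exact ⟨F, i₁, i₂, hF, ⟨e⟩⟩
  · exact transport (perp_eq hdc)
      (fun K => ∃ c₃ : ZMod 3, c₃ ≠ 0 ∧ IsProjReflectionGroupModThree (↥K ⧸ Subgroup.center ↥K) 6 1 c₃) hL

theorem m23_of (hZ : Subgroup.center G = ⊥) (hd : d ∈ D) (hc : c ∈ D) (hdc : ¬ Commute d c)
    (hH : IsOfTypeM22 (Sec D d) (secSet D d))
    (hL : ∃ c₃ : ZMod 3, c₃ ≠ 0 ∧ IsProjReflectionGroupModThree
      (↥(pairGrp D d c) ⧸ Subgroup.center ↥(pairGrp D d c)) 7 (-c₃) c₃) :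
    IsOfTypeM23 G D := by
  exact ⟨hZ, d, hd, c, hc, hdc, hH, transport (perp_eq hdc)
    (fun K => ∃ c₃ : ZMod 3, c₃ ≠ 0 ∧ IsProjReflectionGroupModThree (↥K ⧸ Subgroup.center ↥K) 7 (-c₃) c₃) hL⟩

theorem m24_of (hZ : Subgroup.center G = ⊥) (hd : d ∈ D) (hc : c ∈ D) (hdc : ¬ Commute d c)
    (hH : IsOfTypeM23 (Sec D d) (secSet D d))
    (hL : ∃ (N : Subgroup (↥(pairGrp D d c) ⧸ Subgroup.center ↥(pairGrp D d c))) (_ : N.Normal),
      Nonempty (N ≃* POmega (ZMod 3) (quadFormPlus 4 (ZMod 3))) ∧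
      Nonempty ((↥(pairGrp D d c) ⧸ Subgroup.center ↥(pairGrp D d c)) ⧸ N ≃* Equiv.Perm (Fin 3))) :
    IsOfTypeM24 G D := by
  exact ⟨hZ, d, hd, c, hc, hdc, hH, transport (perp_eq hdc)
    (fun K => ∃ (N : Subgroup (↥K ⧸ Subgroup.center ↥K)) (_ : N.Normal),
      Nonempty (N ≃* POmega (ZMod 3) (quadFormPlus 4 (ZMod 3))) ∧
      Nonempty ((↥K ⧸ Subgroup.center ↥K) ⧸ N ≃* Equiv.Perm (Fin 3))) hL⟩

theorem discR_six (c : ZMod 3) : discR 6 false c = 1 := by revert c; decide

theorem discR_seven (c : ZMod 3) : discR 7 false c = -c := by revert c; decide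

theorem discR_eight (c : ZMod 3) : discR 8 true c = 1 := by revert c; decide

/-- Three members of a class generating the group give the symmetric group of degree three. -/
theorem perm_three_of_class {H : Type u} [Group H] [Finite H] {T : Set H}
    (hT : IsThreeTranspositionClass T) (h3 : T.ncard = 3) : Nonempty (H ≃* Equiv.Perm (Fin 3)) := by
  obtain ⟨a, ha, -⟩ := id hT.2.1
  obtain ⟨b, hb, hab⟩ : ∃ b ∈ T, ¬ Commute a b := by
    by_contra hall
    push Not at hall
    have hz := central_of_commute_class hT fun q hq => (hall q hq).symm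
    have : T ⊆ {a} := fun q hq => by
      obtain ⟨g, rfl⟩ := class_trans hT ha hq
      rw [Set.mem_singleton_iff, Subgroup.mem_center_iff.1 hz g, mul_inv_cancel_right]
    have h1 := Set.ncard_le_ncard this (Set.finite_singleton a)
    rw [h3, Set.ncard_singleton] at h1
    omega
  have haa := mul_self hT.1 ha
  have hbb := mul_self hT.1 hb
  have hbr := braid hT.1 ha hb hab
  set w := a * b * a with hw
  have hwT : w ∈ T := by
    have := class_conj hT a b hb
    rwa [inv_eq hT.1 ha] at this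
  have hwa : w ≠ a := fun e => hab <| by
    have e1 : a * b = 1 := mul_right_cancel (b := a) ((hw.symm.trans e).trans (one_mul a).symm)
    have e2 : b = a := (inv_eq_of_mul_eq_one_right e1).symm.trans (inv_eq hT.1 ha)
    exact e2 ▸ Commute.refl _
  have hwb : w ≠ b := fun e => hab <| by
    show a * b = b * a
    calc a * b = a * b * a * a := by rw [mul_assoc (a * b), haa, mul_one]
      _ = b * a := by rw [← hw, e]
  have hne : a ≠ b := fun e => hab (e ▸ Commute.refl _)
  have hTeq : T = {a, b, w} := by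
    refine (Set.eq_of_subset_of_ncard_le ?_ ?_ (Set.toFinite _)).symm
    · rintro x (rfl | rfl | rfl) <;> assumption
    · rw [h3, Set.ncard_insert_of_notMem (by simp [hne, Ne.symm hwa]) (Set.toFinite _),
        Set.ncard_pair (Ne.symm hwb)]
  obtain ⟨φ, h0, h1⟩ := exists_hom_perm_three haa hbb hbr
  have hinj : Function.Injective φ := injective_of_perm_three φ (by
    rw [map_mul, h0, h1]
    exact fun e => hne (by rw [← inv_eq_of_mul_eq_one_right e, inv_eq hT.1 ha]))
  have hsurj : Function.Surjective φ := by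
    rw [← MonoidHom.range_eq_top, eq_top_iff, ← hT.2.2, Subgroup.closure_le, hTeq]
    rintro x (rfl | rfl | rfl)
    · exact ⟨_, h0⟩
    · exact ⟨_, h1⟩
    · exact ⟨Equiv.swap 0 1 * Equiv.swap 1 2 * Equiv.swap 0 1, by rw [map_mul, map_mul, h0, h1]⟩
  exact ⟨(MulEquiv.ofBijective φ ⟨hinj, hsurj⟩).symm⟩

/-- The triality shape: a normal perfect subgroup, a reflection group over it and three images. -/
theorem triality_of {K : Type u} [Group K] [Finite K] {E : Set K} (hE : IsThreeTranspositionClass E)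
    (F : Subgroup K) [F.Normal] (hF : ⁅F, F⁆ = F) {x : K} (hnot : ∀ y ∈ E, y ∉ F)
    (h3 : (QuotientGroup.mk' F '' E).ncard = 3) {M : Subgroup K} (hMeq : M = F ⊔ Subgroup.zpowers x)
    {E' : Set ↥M} (hM : (Fam.refl 8 true).Model ↥M E') :
    ∃ (N : Subgroup K) (_ : N.Normal), Nonempty (N ≃* POmega (ZMod 3) (quadFormPlus 4 (ZMod 3))) ∧
      Nonempty (K ⧸ N ≃* Equiv.Perm (Fin 3)) := by
  refine ⟨F, inferInstance, ?_, perm_three_of_class (quot_class' hE hnot) h3⟩
  obtain ⟨Q, hQ, c, hc, hdet, e, -⟩ := hM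
  rw [discR_eight] at hdet
  obtain ⟨φ⟩ := pomega_of_refl hQ hdet hc
  have hcomm : (commutator ↥M).map M.subtype = F := by
    rw [Subgroup.map_subtype_commutator]
    refine le_antisymm ?_ ?_
    · rw [Subgroup.commutator_le]
      intro p hp q hq
      have hab : ∀ r ∈ M, ∃ n : ℤ, QuotientGroup.mk' F r = (QuotientGroup.mk' F x) ^ n := by
        intro r hr
        have h1 : M ≤ (Subgroup.zpowers (QuotientGroup.mk' F x)).comap (QuotientGroup.mk' F) := by
          rw [hMeq]
          refine sup_le (fun z hz => ?_) (Subgroup.zpowers_le.2 (Subgroup.mem_zpowers _))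
          rw [Subgroup.mem_comap, show QuotientGroup.mk' F z = 1 from (QuotientGroup.eq_one_iff z).2 hz]
          exact one_mem _
        obtain ⟨n, hn⟩ := h1 hr
        exact ⟨n, hn.symm⟩
      obtain ⟨i, hi⟩ := hab p hp
      obtain ⟨j, hj⟩ := hab q hq
      refine (QuotientGroup.eq_one_iff _).1 ?_
      show QuotientGroup.mk' F ⁅p, q⁆ = 1
      rw [map_commutatorElement, hi, hj, commutatorElement_eq_one_iff_commute]
      exact (Commute.refl _).zpow_zpow i j
    · conv_lhs => rw [← hF]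
      rw [hMeq]
      exact Subgroup.commutator_mono le_sup_left le_sup_left
  let e' : commutator ↥M ≃* commutator (↥(Cfsg.reflectionSubgroup (⇑Q) c) ⧸
      Subgroup.center ↥(Cfsg.reflectionSubgroup (⇑Q) c)) :=
    (e.subgroupMap (commutator ↥M)).trans (MulEquiv.subgroupCongr (by
      show (commutator ↥M).map e.toMonoidHom = _
      rw [commutator_def, commutator_def, Subgroup.map_commutator,
        Subgroup.map_top_of_surjective _ e.surjective]))
  exact ⟨(((MulEquiv.subgroupCongr hcomm).symm.trans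
    ((commutator ↥M).equivMapOfInjective M.subtype M.subtype_injective).symm).trans e').trans φ⟩
where
  quot_class' {K : Type u} [Group K] [Finite K] {E : Set K} (hcl : IsThreeTranspositionClass E)
      {N : Subgroup K} [N.Normal] (hne : ∀ x ∈ E, x ∉ N) :
      IsThreeTranspositionClass (QuotientGroup.mk' N '' E) := by
    obtain ⟨a, ha, -⟩ := id hcl.2.1
    refine ⟨⟨?_, ?_⟩, ⟨QuotientGroup.mk' N a, ⟨a, ha, rfl⟩, Set.ext fun y => ⟨?_, fun hy => ?_⟩⟩, ?_⟩
    · rintro _ ⟨x, hx, rfl⟩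
      exact orderOf_eq_prime (by rw [pow_two, ← map_mul, mul_self hcl.1 hx, map_one])
        (fun e => hne x hx ((QuotientGroup.eq_one_iff x).1 e))
    · rintro _ ⟨x, hx, rfl⟩ _ ⟨y, hy, rfl⟩
      rcases hcl.1.2 x hx y hy with h | h
      · left; rw [← map_mul, ← map_pow, h, map_one]
      · right; rw [← map_mul, ← map_pow, h, map_one]
    · rintro ⟨x, hx, rfl⟩
      obtain ⟨g, rfl⟩ := class_trans hcl ha hx
      exact isConj_iff.2 ⟨QuotientGroup.mk' N g, by rw [← map_inv, ← map_mul, ← map_mul]⟩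
    · obtain ⟨g, rfl⟩ := isConj_iff.1 hy
      obtain ⟨g, rfl⟩ := QuotientGroup.mk'_surjective N g
      exact ⟨_, class_conj hcl g a ha, by rw [← map_inv, ← map_mul, ← map_mul]⟩
    · rw [← MonoidHom.map_closure, hcl.2.2]
      exact Subgroup.map_top_of_surjective _ (QuotientGroup.mk'_surjective N)

end CfsgLib.ThreeTrans.Fischer.MType
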