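import Cfsg.Agent.Lib.ThreeTrans.Classification.Pair
import Cfsg.Agent.Lib.ThreeTrans.Classification.ReconM.Clauses
import Cfsg.Agent.Lib.ThreeTrans.Classification.ReconM.Numbers

/-!
Fischer's classification, slice MTYPE: the member behind a common perp, from the parameters
(owner: helper16).
-/

set_option autoImplicit false

namespace CfsgLib.ThreeTrans.Fischer.MType

open Cfsg RankThree CoreNC

universe u

variable {G : Type u} [Group G] {D : Set G}

/-- The non-commuting graph is connected when the valency of commuting is below half. -/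
theorem shapeConn_of_small {X : Set G} [Finite G] (h : ClusterShape X) {k : ℕ}
    (hk : ∀ x ∈ X, {y | y ∈ X ∧ y ≠ x ∧ Commute x y}.ncard = k) (hk0 : 0 < k) (hlt : 2 * k < X.ncard) :
    ShapeConn X := by
  refine h.resolve_right fun hcocl => ?_
  obtain ⟨x, hx⟩ : X.Nonempty := Set.nonempty_of_ncard_ne_zero (by omega)
  obtain ⟨y, hy, hyx, hxy⟩ : {y | y ∈ X ∧ y ≠ x ∧ Commute x y}.Nonempty :=
    Set.nonempty_of_ncard_ne_zero (by rw [hk x hx]; omega)
  set B := X \ insert y {z | z ∈ X ∧ z ≠ y ∧ Commute y z} with hB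
  have hBc : B.ncard = X.ncard - (k + 1) := by
    rw [hB, Set.ncard_sdiff (Set.insert_subset hy fun z hz => hz.1) (Set.toFinite _),
      Set.ncard_insert_of_notMem (fun hm => hm.2.1 rfl) (Set.toFinite _), hk y hy]
  have hsub : insert y B ⊆ {z | z ∈ X ∧ z ≠ x ∧ Commute x z} := by
    rintro z (rfl | ⟨hz, hzy⟩)
    · exact ⟨hy, hyx, hxy⟩
    · have hyz : ¬ Commute y z := fun hc => hzy (by
        by_cases e : z = y
        · exact Or.inl e
        · exact Or.inr ⟨hz, e, hc⟩)
      refine ⟨hz, fun e => hyz (e ▸ hxy.symm), ?_⟩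
      by_contra hxz
      rcases hcocl x hx z hz y hy hxz (fun hc => hyz hc.symm) with e | e
      exacts [hyx e.symm, e hxy]
  have := Set.ncard_le_ncard hsub (Set.toFinite _)
  rw [Set.ncard_insert_of_notMem (fun hm => hm.2 (Or.inl rfl)) (Set.toFinite _), hBc, hk x hx] at this
  omega

theorem perp_class (S : Setting D) {a b : G} (hne : (Polar.cperp D a b).Nonempty)
    (hconn : ShapeConn (Polar.cperp D a b)) : IsThreeTranspositionClass (inClosure (Polar.cperp D a b)) := by
  obtain ⟨x₀, hx₀⟩ := hne
  refine inClosure_class S.cls.1 (fun y hy => hy.1) (fun g hg y hy => cperp_conj_mem S hg hy) hx₀ ?_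
  have hT := hconn {y | y ∈ Polar.cperp D a b ∧ ∃ g ∈ Subgroup.closure (Polar.cperp D a b), g * x₀ * g⁻¹ = y}
    (fun y hy => hy.1) ⟨x₀, hx₀, 1, one_mem _, by group⟩ (by
      rintro p ⟨hp, g, hg, e⟩ q ⟨hq, hqT⟩
      by_contra hpq
      refine hqT ⟨hq, p * q * g, mul_mem (mul_mem (Subgroup.subset_closure hp) (Subgroup.subset_closure hq)) hg, ?_⟩
      calc p * q * g * x₀ * (p * q * g)⁻¹ = p * q * (g * x₀ * g⁻¹) * (p * q)⁻¹ := by group
        _ = q := by rw [e]; exact mul_mul_braid S.cls.1 hp.1 hq.1 hpq)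
  exact fun y hy => (hT.symm ▸ hy :
    y ∈ {y | y ∈ Polar.cperp D a b ∧ ∃ g ∈ Subgroup.closure (Polar.cperp D a b), g * x₀ * g⁻¹ = y}).2

/-- No blown up cliques with these valencies. -/
theorem no_clique {k l : ℕ} (h : (k, l) ∈ [(45, 12), (126, 45), (351, 126)]) (a r : ℕ) (hr : 2 ≤ r)
    (hk : k = 3 ^ a * (r - 1)) (hl : l = 3 ^ a * (r - 2)) : False := by
  have h1 : l + 3 ^ a = k := by
    rw [hk, hl, ← Nat.mul_succ]
    congr 1
    omega
  have ha : a < 6 := by
    by_contra hlt
    have := Nat.pow_le_pow_right (show 0 < 3 by norm_num) (show 6 ≤ a by omega)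
    simp only [List.mem_cons, List.not_mem_nil, or_false, Prod.mk.injEq] at h
    omega
  simp only [List.mem_cons, List.not_mem_nil, or_false, Prod.mk.injEq] at h
  rcases h with ⟨rfl, rfl⟩ | ⟨rfl, rfl⟩ | ⟨rfl, rfl⟩ <;> interval_cases a <;> omega

/-- What the common perps of the three sporadic targets are. -/
def target : ℕ × ℕ → Option Fam
  | (45, 12) => some (.refl 6 false)
  | (126, 45) => some (.refl 7 false)
  | (351, 126) => some (.refl 8 true)
  | _ => none

theorem blown_unique {k l : ℕ} (h : (k, l) ∈ [(45, 12), (126, 45), (351, 126)]) {a k₀ l₀ : ℕ}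
    (hk : k = 3 ^ a * k₀) (hl : l = 3 ^ a * l₀) {f : Fam} (hf : f.OK) (hfk : f.tup.k = k₀) (hfl : f.tup.l = l₀) :
    a = 0 ∧ some f = target (k, l) := by
  have ha : a < 3 := by
    by_contra hlt
    have hdvd : (27 : ℕ) ∣ 3 ^ a := by
      rw [show (27 : ℕ) = 3 ^ 3 by norm_num]; exact Nat.pow_dvd_pow 3 (by omega)
    have h1 : 27 ∣ k := hk ▸ Dvd.dvd.mul_right hdvd _
    have h2 : 27 ∣ l := hl ▸ Dvd.dvd.mul_right hdvd _
    simp only [List.mem_cons, List.not_mem_nil, or_false, Prod.mk.injEq] at h
    omega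
  simp only [List.mem_cons, List.not_mem_nil, or_false, Prod.mk.injEq] at h
  rcases h with ⟨rfl, rfl⟩ | ⟨rfl, rfl⟩ | ⟨rfl, rfl⟩ <;> interval_cases a
  all_goals norm_num at hk hl
  all_goals
    first
      | omega
      | (have := fam_of_kl hf (e := ((45, 12), some (.refl 6 false))) (by simp [klTable]) (by dsimp only; omega) (by dsimp only; omega); exact ⟨rfl, this⟩)
      | (have := fam_of_kl hf (e := ((15, 4), none)) (by simp [klTable]) (by dsimp only; omega) (by dsimp only; omega); simp at this)
      | (have := fam_of_kl hf (e := ((126, 45), some (.refl 7 false))) (by simp [klTable]) (by dsimp only; omega) (by dsimp only; omega); exact ⟨rfl, this⟩)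
      | (have := fam_of_kl hf (e := ((42, 15), none)) (by simp [klTable]) (by dsimp only; omega) (by dsimp only; omega); simp at this)
      | (have := fam_of_kl hf (e := ((14, 5), none)) (by simp [klTable]) (by dsimp only; omega) (by dsimp only; omega); simp at this)
      | (have := fam_of_kl hf (e := ((351, 126), some (.refl 8 true))) (by simp [klTable]) (by dsimp only; omega) (by dsimp only; omega); exact ⟨rfl, this⟩)
      | (have := fam_of_kl hf (e := ((117, 42), none)) (by simp [klTable]) (by dsimp only; omega) (by dsimp only; omega); simp at this)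
      | (have := fam_of_kl hf (e := ((39, 14), none)) (by simp [klTable]) (by dsimp only; omega) (by dsimp only; omega); simp at this)

end CfsgLib.ThreeTrans.Fischer.MType
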